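import Groth.Agent.ThickPush.Exists
import Groth.Agent.EtInvariance.Extend
import Groth.Agent.AlgSpLib.EtST
import Groth.Agent.AlgSpLib.LocP

/-!
# Charts of morphisms between pushouts along thickenings
-/

set_option autoImplicit false
set_option backward.isDefEq.respectTransparency false
set_option linter.style.haveILetI false

universe u

open CategoryTheory CategoryTheory.Limits AlgebraicGeometry

namespace Groth.Agent.ThickPush

open _root_.AlgSp Groth.Agent.AlgSpLib Groth.Agent.EtInvariance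

variable {S : Scheme.{u}}

/-- Charts transport along isomorphisms of the corner. -/
noncomputable def Chart.ofIso {X X' Y P P' : Sp S} {t : X ⟶ X'} {f : X ⟶ Y} {f' : X' ⟶ P} {t' : Y ⟶ P}
    (C : Chart t f f' t') (e : P ≅ P') {g' : X' ⟶ P'} {s' : Y ⟶ P'} (h₁ : f' ≫ e.hom = g') (h₂ : t' ≫ e.hom = s') :
    Chart t f g' s' where
  X₀ := C.X₀
  X₀' := C.X₀'
  Y₀ := C.Y₀
  P₀ := C.P₀
  i := C.i
  j := C.j
  a := C.a
  b := C.b
  pinch := C.pinch
  q := C.q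
  q' := C.q'
  r := C.r
  p := C.p ≫ e.hom
  hi := C.hi
  hj := C.hj
  ha := IsPullback.of_iso C.ha (Iso.refl _) (Iso.refl _) (Iso.refl _) e (by simp) (by simp) (by simp) (by simp [h₁])
  hb := IsPullback.of_iso C.hb (Iso.refl _) (Iso.refl _) (Iso.refl _) e (by simp) (by simp) (by simp) (by simp [h₂])
  et := (repWith_comp_iso_iff C.p e.hom).2 C.et
  surj := (repWith_comp_iso_iff C.p e.hom).2 C.surj

variable {X X' Y P : Space S} {t : X ⟶ X'} {f : X ⟶ Y} {f' : X' ⟶ P} {t' : Y ⟶ P}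

/-- Every pushout along a thickening and an affine morphism has charts, and is again along a thickening. -/
theorem exists_chart_of_isPushout (ht : IsThickMor t.hom) (hf : IsAffineMor f.hom) (h : IsPushout t f f' t') :
    (∃ _ : Chart t.hom f.hom f'.hom t'.hom, True) ∧ IsThickMor t'.hom := by
  obtain ⟨Y₀, r, hre, hrs⟩ := Y.property.atlas
  obtain ⟨Q, g', s', C, hQ, w, hth⟩ := exists_chart X.property X'.property Y.property t.hom ht f.hom
    ((isAffineMor_iff_repWith _).1 hf) r hre hrs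
  let Q' : Space S := ⟨Q, hQ⟩
  let g'' : X' ⟶ Q' := ObjectProperty.homMk g'
  let s'' : Y ⟶ Q' := ObjectProperty.homMk s'
  have h' : IsPushout t f g'' s'' := isPushout_of_chart (ObjectProperty.hom_ext _ w) C
  let e : Q' ≅ P := h'.isoIsPushout _ _ h
  let e₀ : Q ≅ P.obj := (ObjectProperty.ι _).mapIso e
  have h₁ : g' ≫ e₀.hom = f'.hom := congrArg (fun m => m.hom) (h'.inl_isoIsPushout_hom _ _ h)
  have h₂ : s' ≫ e₀.hom = t'.hom := congrArg (fun m => m.hom) (h'.inr_isoIsPushout_hom _ _ h)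
  exact ⟨⟨C.ofIso e₀ h₁ h₂, trivial⟩, h₂ ▸ (repWith_comp_iso_iff (P := thick) s' e₀.hom).2 hth⟩

variable {U U' V W : Space S} {uV : U ⟶ V} {uU' : U ⟶ U'} {uX : U ⟶ X} {v : V ⟶ Y} {u' : U' ⟶ X'}
  {iU' : U' ⟶ W} {iV : V ⟶ W} {w : W ⟶ P}

/-- A map between pushouts, read on charts: a map of pinchings with cartesian squares over the parts. -/
theorem exists_chart_mor (ht : IsThickMor t.hom) (hf : IsAffineMor f.hom) (hP : IsPushout t f f' t')
    (hUV : IsPullback uV.hom uX.hom v.hom f.hom) (hUU' : IsPullback uU'.hom uX.hom u'.hom t.hom)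
    (hW : IsPushout uU' uV iU' iV) (w₁ : iV ≫ w = v ≫ t') (w₂ : iU' ≫ w = u' ≫ f') :
    ∃ (C : Chart t.hom f.hom f'.hom t'.hom) (D : Chart uU'.hom uV.hom iU'.hom iV.hom)
      (gX : D.X₀ ⟶ C.X₀) (gX' : D.X₀' ⟶ C.X₀') (gY : D.Y₀ ⟶ C.Y₀) (m : D.P₀ ⟶ C.P₀),
      IsPullback D.i.left gX.left gX'.left C.i.left ∧ IsPullback D.j.left gX.left gY.left C.j.left ∧
      D.a ≫ m = gX' ≫ C.a ∧ D.b ≫ m = gY ≫ C.b ∧
      (yon S).map gX' ≫ C.q' = D.q' ≫ u'.hom ∧ (yon S).map gY ≫ C.r = D.r ≫ v.hom ∧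
      (yon S).map m ≫ C.p = D.p ≫ w.hom := by
  obtain ⟨⟨C, -⟩, -⟩ := exists_chart_of_isPushout ht hf hP
  obtain ⟨W₀, r₀, α, hr₀e, hr₀s, hα⟩ := exists_chart_lift V.property Y.property v.hom C.et_r C.surj_r
  have hUt : IsThickMor uU'.hom := repWith_baseChange hUU'.flip ht
  have hUf : IsAffineMor uV.hom :=
    (isAffineMor_iff_repWith _).2 (repWith_baseChange hUV.flip ((isAffineMor_iff_repWith _).1 hf))
  obtain ⟨Q, g', s', D₁, hQ, hw, hY₀⟩ : ∃ (Q : Sp S) (g' : U'.obj ⟶ Q) (s' : V.obj ⟶ Q)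
      (D : Chart uU'.hom uV.hom g' s'), IsAlgSpace Q ∧ uU'.hom ≫ g' = uV.hom ≫ s' ∧
      ∃ γ : D.Y₀ ⟶ C.Y₀, (yon S).map γ ≫ C.r = D.r ≫ v.hom := by
    obtain ⟨Q, g', s', D, hQ, hw, -, δ, hδ⟩ := exists_chart' U.property U'.property V.property uU'.hom hUt uV.hom
      ((isAffineMor_iff_repWith _).1 hUf) r₀ hr₀e hr₀s
    exact ⟨Q, g', s', D, hQ, hw, δ ≫ α, by rw [Functor.map_comp, Category.assoc, ← hα, reassoc_of% hδ]⟩
  obtain ⟨gY, hgY⟩ := hY₀
  let Q' : Space S := ⟨Q, hQ⟩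
  have h' : IsPushout uU' uV (ObjectProperty.homMk g' : U' ⟶ Q') (ObjectProperty.homMk s') :=
    isPushout_of_chart (ObjectProperty.hom_ext _ hw) D₁
  let D := D₁.ofIso ((ObjectProperty.ι _).mapIso (h'.isoIsPushout _ _ hW))
    (congrArg (fun m => m.hom) (h'.inl_isoIsPushout_hom _ _ hW)) (congrArg (fun m => m.hom) (h'.inr_isoIsPushout_hom _ _ hW))
  -- the map over `X`
  obtain ⟨gX, hgX⟩ := exists_map_eq (C.hj.lift ((yon S).map (D.j ≫ gY)) (D.q ≫ uX.hom) (by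
    rw [Functor.map_comp, Category.assoc, show (yon S).map gY ≫ C.r = D.r ≫ v.hom from hgY, reassoc_of% D.hj.w,
      Category.assoc, hUV.w]))
  have hgX₁ : gX ≫ C.j = D.j ≫ gY := (yon S).map_injective (by rw [Functor.map_comp, hgX, C.hj.lift_fst])
  have hgX₂ : (yon S).map gX ≫ C.q = D.q ≫ uX.hom := by rw [hgX, C.hj.lift_snd]
  -- the map over the thickening
  obtain ⟨φ, ⟨hφ₁, hφ₂⟩, -⟩ := existsUnique_extend (IsAlgSpace.yon_obj D.X₀) (IsAlgSpace.yon_obj D.X₀')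
    (IsAlgSpace.yon_obj C.X₀') X'.property (D.q' ≫ u'.hom) C.q' (isEtaleMor_of_repWith' C.et_q') ((yon S).map D.i)
    (IsUH.of_thick (repWith_baseChange D.hi.flip hUt)) ((yon S).map (gX ≫ C.i)) (by
      rw [Functor.map_comp, Category.assoc, C.hi.w, reassoc_of% hgX₂, ← hUU'.w, reassoc_of% D.hi.w])
  obtain ⟨gX', rfl⟩ := exists_map_eq φ
  have hgX' : D.i ≫ gX' = gX ≫ C.i := (yon S).map_injective (by rw [Functor.map_comp, hφ₂])
  let m : D.P₀ ⟶ C.P₀ := D.pinch.isPushout.desc (gX' ≫ C.a) (gY ≫ C.b)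
    (by rw [reassoc_of% hgX', C.pinch.w, reassoc_of% hgX₁])
  have ha : D.a ≫ m = gX' ≫ C.a := D.pinch.isPushout.inl_desc _ _ _
  have hb : D.b ≫ m = gY ≫ C.b := D.pinch.isPushout.inr_desc _ _ _
  have w₁' : iV.hom ≫ w.hom = v.hom ≫ t'.hom := congrArg (fun m => m.hom) w₁
  have w₂' : iU'.hom ≫ w.hom = u'.hom ≫ f'.hom := congrArg (fun m => m.hom) w₂
  refine ⟨C, D, gX, gX', gY, m, ?_, ?_, ha, hb, hφ₁, hgY, D.pinch.sp_hom_ext P.property ?_ ?_⟩
  · refine isPullback_yon_iff.1 (IsPullback.of_bot ?_ (by rw [← Functor.map_comp, hgX', Functor.map_comp]) C.hi)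
    rw [hgX₂, hφ₁]
    exact D.hi.paste_vert hUU'
  · refine isPullback_yon_iff.1 (IsPullback.of_bot ?_ (by rw [← Functor.map_comp, ← hgX₁, Functor.map_comp]) C.hj)
    rw [hgX₂, show (yon S).map gY ≫ C.r = D.r ≫ v.hom from hgY]
    exact D.hj.paste_vert hUV
  · rw [← Functor.map_comp_assoc, ha, Functor.map_comp_assoc, C.ha.w, reassoc_of% hφ₁, ← w₂', reassoc_of% D.ha.w]
  · rw [← Functor.map_comp_assoc, hb, Functor.map_comp_assoc, C.hb.w,
      reassoc_of% (show (yon S).map gY ≫ C.r = D.r ≫ v.hom from hgY), ← w₁', reassoc_of% D.hb.w]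

end Groth.Agent.ThickPush
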