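import Groth.Agent.ThickPush.Mor
import Groth.Agent.AlgSpLib.MiscCancel

/-!
# Cartesian squares and descent of properties for pushouts along thickenings
-/

set_option autoImplicit false
set_option backward.isDefEq.respectTransparency false
set_option linter.style.haveILetI false

universe u

open CategoryTheory CategoryTheory.Limits AlgebraicGeometry

namespace Groth.Agent.ThickPush

open _root_.AlgSp Groth.Agent.AlgSpLib Groth.Agent.EtInvariance

variable {S : Scheme.{u}} {X X' Y P : Space S} {t : X ⟶ X'} {f : X ⟶ Y} {f' : X' ⟶ P} {t' : Y ⟶ P}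
  {U U' V W : Space S} {uV : U ⟶ V} {uU' : U ⟶ U'} {uX : U ⟶ X} {v : V ⟶ Y} {u' : U' ⟶ X'}
  {iU' : U' ⟶ W} {iV : V ⟶ W} {w : W ⟶ P}
  (ht : IsThickMor t.hom) (hf : IsAffineMor f.hom) (hP : IsPushout t f f' t')
  (hUV : IsPullback uV.hom uX.hom v.hom f.hom) (hUU' : IsPullback uU'.hom uX.hom u'.hom t.hom)
  (hW : IsPushout uU' uV iU' iV) (w₁ : iV ≫ w = v ≫ t') (w₂ : iU' ≫ w = u' ≫ f')

include ht hf hP hUV hUU' hW w₁ w₂

/-- The restrictions of a glued space to the two parts are the given ones. -/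
theorem isPullback_glued :
    IsPullback iV.hom v.hom w.hom t'.hom ∧ IsPullback iU'.hom u'.hom w.hom f'.hom := by
  obtain ⟨C, D, gX, gX', gY, m, hi, hj, ha, hb, eX', eY, em⟩ := exists_chart_mor ht hf hP hUV hUU' hW w₁ w₂
  obtain ⟨pa, pb⟩ := C.pinch.isPullback_branches D.pinch hi hj ha hb
  constructor
  · refine (isPullback_of_etale_surjective (IsAlgSpace.yon_obj D.P₀) V.property W.property Y.property P.property
      (ac := D.r) (ab := (yon S).map D.b) (bd := D.p) D.hb.flip (congrArg (fun k => k.hom) w₁) ?_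
      (isSurjectiveMor_of_repWith D.surj) (isEtaleMor_of_repWith' D.et)).flip
    rw [← eY, ← em]
    exact (isPullback_yon_iff.2 pb).flip.paste_horiz C.hb.flip
  · refine (isPullback_of_etale_surjective (IsAlgSpace.yon_obj D.P₀) U'.property W.property X'.property P.property
      (ac := D.q') (ab := (yon S).map D.a) (bd := D.p) D.ha.flip (congrArg (fun k => k.hom) w₂) ?_
      (isSurjectiveMor_of_repWith D.surj) (isEtaleMor_of_repWith' D.et)).flip
    rw [← eX', ← em]
    exact (isPullback_yon_iff.2 pa).flip.paste_horiz C.ha.flip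

/-- A property etale local on source and target descends to the glued morphism. -/
theorem locP_glued {M : MorphismProperty Scheme.{u}} {Q : ∀ {R R' : Type u} [CommRing R] [CommRing R'], (R →+* R') → Prop}
    [HasRingHomProperty M Q] (hM : EtST M) {Q₁ : ∀ {R R' : Type u} [CommRing R] [CommRing R'], (R →+* R') → Prop}
    (hd : Pinch.Desc Q₁ Q) (hQ : RingHom.StableUnderCompositionWithLocalizationAwaySource Q)
    (hv : ∀ (X₁ X₁' : Over S) (a : (yon S).obj X₁ ⟶ V.obj) (b : (yon S).obj X₁' ⟶ Y.obj) (k : X₁ ⟶ X₁'),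
      RepWith @Etale a → RepWith @Etale b → a ≫ v.hom = (yon S).map k ≫ b →
      ∀ (Ua : X₁'.left.affineOpens) (Va : X₁.left.affineOpens) (e : Va.1 ≤ k.left ⁻¹ᵁ Ua.1),
        Q₁ (k.left.appLE Ua Va e).hom)
    (hu : ∀ (X₁ X₁' : Over S) (a : (yon S).obj X₁ ⟶ U'.obj) (b : (yon S).obj X₁' ⟶ X'.obj) (k : X₁ ⟶ X₁'),
      RepWith @Etale a → RepWith @Etale b → a ≫ u'.hom = (yon S).map k ≫ b →
      ∀ (Ua : X₁'.left.affineOpens) (Va : X₁.left.affineOpens) (e : Va.1 ≤ k.left ⁻¹ᵁ Ua.1),
        Q₁ (k.left.appLE Ua Va e).hom) : LocP M w.hom := by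
  obtain ⟨C, D, gX, gX', gY, m, hi, hj, ha, hb, eX', eY, em⟩ := exists_chart_mor ht hf hP hUV hUU' hW w₁ w₂
  refine locP_of_chart hM W.property P.property D.et D.surj C.et em.symm ?_
  haveI := C.pinch.closed
  haveI := D.pinch.closed
  exact Pinch.of_desc hd hQ C.pinch.hasCharts C.pinch.pinch D.pinch.hasCharts D.pinch.pinch hi hj
    (congrArg Over.Hom.left ha) (congrArg Over.Hom.left hb)
    (hu _ _ D.q' C.q' gX' D.et_q' C.et_q' eX'.symm) (hv _ _ D.r C.r gY D.et_r C.et_r eY.symm)

/-- A property stable under base change passes from the glued morphism to the parts. -/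
theorem locP_parts {M : MorphismProperty Scheme.{u}} (hM : EtST M) (h : LocP M w.hom) :
    LocP M v.hom ∧ LocP M u'.hom := by
  haveI := hM.baseChange
  obtain ⟨C, D, gX, gX', gY, m, hi, hj, ha, hb, eX', eY, em⟩ := exists_chart_mor ht hf hP hUV hUU' hW w₁ w₂
  obtain ⟨pa, pb⟩ := C.pinch.isPullback_branches D.pinch hi hj ha hb
  have hm : M m.left := h D.p C.p m D.et C.et em.symm
  exact ⟨locP_of_chart hM V.property Y.property D.et_r D.surj_r C.et_r eY.symm (M.of_isPullback pb hm),
    locP_of_chart hM U'.property X'.property D.et_q' D.surj_q' C.et_q' eX'.symm (M.of_isPullback pa hm)⟩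

end Groth.Agent.ThickPush
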