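import Groth.Agent.ThickPush.Mor
import Groth.Agent.AlgSpLib.DiagProp
import Groth.Agent.AlgSpLib.EtST

/-!
# Spaces flat over a pushout along a thickening are pushouts of their restrictions
-/

set_option autoImplicit false
set_option backward.isDefEq.respectTransparency false
set_option linter.style.haveILetI false

universe u

open CategoryTheory CategoryTheory.Limits AlgebraicGeometry

namespace Groth.Agent.ThickPush

open _root_.AlgSp Groth.Agent.AlgSpLib

variable {S : Scheme.{u}}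

/-- The flat restriction of a pushout is a pushout. -/
theorem isPushout_of_flat {X X' Y P W WY WX' WX : Space S} {t : X ⟶ X'} {f : X ⟶ Y} {f' : X' ⟶ P} {t' : Y ⟶ P}
    (C : Chart t.hom f.hom f'.hom t'.hom) (w : W ⟶ P) (hw : LocP @Flat w.hom)
    {aY : WY ⟶ W} {bY : WY ⟶ Y} (hWY : IsPullback aY.hom bY.hom w.hom t'.hom)
    {aX' : WX' ⟶ W} {bX' : WX' ⟶ X'} (hWX' : IsPullback aX'.hom bX'.hom w.hom f'.hom)
    {cY : WX ⟶ WY} {cX' : WX ⟶ WX'} {bX : WX ⟶ X} (h₁ : IsPullback cY.hom bX.hom bY.hom f.hom)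
    (h₂ : IsPullback cX'.hom bX.hom bX'.hom t.hom) (hcomm : cY ≫ aY = cX' ≫ aX') :
    IsPushout cY cX' aY aX' := by
  obtain ⟨W₀, pD, m, hpe, hps, hm⟩ := exists_chart_lift W.property P.property w.hom C.et C.surj
  haveI : Flat m.left := hw pD C.p m hpe C.et hm
  obtain ⟨X₁', gX', a₁, sa⟩ := exists_pullback_over C.a m
  obtain ⟨Y₁, gY, b₁, sb⟩ := exists_pullback_over C.b m
  obtain ⟨X₁, c, i₁, si⟩ := exists_pullback_over C.i gX'
  let jl := sb.lift (c.left ≫ C.j.left) (i₁.left ≫ a₁.left) (by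
    rw [Category.assoc, show C.j.left ≫ C.b.left = C.i.left ≫ C.a.left from (congrArg Over.Hom.left C.pinch.w).symm,
      reassoc_of% si.w, sa.w, Category.assoc])
  let j₁ : X₁ ⟶ Y₁ := Over.homMk jl (by
    rw [← Over.w gY, sb.lift_fst_assoc, Category.assoc, Over.w C.j, Over.w c])
  have hjc : j₁ ≫ gY = c ≫ C.j := Over.OverMorphism.ext (sb.lift_fst _ _ _)
  have hjw : i₁ ≫ a₁ = j₁ ≫ b₁ := Over.OverMorphism.ext (sb.lift_snd _ _ _).symm
  have hpin := C.pinch.baseChange m sa sb si hjc hjw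
  have hwa : ((yon S).map a₁ ≫ pD) ≫ w.hom = ((yon S).map gX' ≫ C.q') ≫ f'.hom := by
    rw [Category.assoc, hm, ← Functor.map_comp_assoc, ← over_w sa, Functor.map_comp_assoc, C.ha.w, Category.assoc]
  let qX' := hWX'.lift _ _ hwa
  have hwb : ((yon S).map b₁ ≫ pD) ≫ w.hom = ((yon S).map gY ≫ C.r) ≫ t'.hom := by
    rw [Category.assoc, hm, ← Functor.map_comp_assoc, ← over_w sb, Functor.map_comp_assoc, C.hb.w, Category.assoc]
  let rY := hWY.lift _ _ hwb
  have hwi : ((yon S).map i₁ ≫ qX') ≫ bX'.hom = ((yon S).map c ≫ C.q) ≫ t.hom := by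
    rw [Category.assoc, hWX'.lift_snd, ← Functor.map_comp_assoc, ← over_w si, Functor.map_comp_assoc, C.hi.w,
      Category.assoc]
  let qX := h₂.lift _ _ hwi
  have hqX : qX ≫ cY.hom = (yon S).map j₁ ≫ rY := by
    apply hWY.hom_ext
    · rw [Category.assoc, show cY.hom ≫ aY.hom = cX'.hom ≫ aX'.hom from congrArg (fun k => k.hom) hcomm,
        ← Category.assoc qX, h₂.lift_fst, Category.assoc, hWX'.lift_fst, ← Functor.map_comp_assoc, hjw,
        Functor.map_comp_assoc, Category.assoc, hWY.lift_fst]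
    · rw [Category.assoc, h₁.w, ← Category.assoc qX, h₂.lift_snd, Category.assoc, ← C.hj.w, ← Functor.map_comp_assoc,
        ← hjc, Functor.map_comp_assoc, Category.assoc, hWY.lift_snd]
  have ha' : IsPullback ((yon S).map a₁) qX' pD aX'.hom := by
    refine IsPullback.of_bot ?_ (hWX'.lift_fst _ _ _).symm hWX'
    rw [hWX'.lift_snd, hm]
    exact (isPullback_yon_iff.2 sa.flip).paste_vert C.ha
  have hb' : IsPullback ((yon S).map b₁) rY pD aY.hom := by
    refine IsPullback.of_bot ?_ (hWY.lift_fst _ _ _).symm hWY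
    rw [hWY.lift_snd, hm]
    exact (isPullback_yon_iff.2 sb.flip).paste_vert C.hb
  have hi' : IsPullback ((yon S).map i₁) qX qX' cX'.hom := by
    refine IsPullback.of_bot ?_ (h₂.lift_fst _ _ _).symm h₂
    rw [h₂.lift_snd, hWX'.lift_snd]
    exact (isPullback_yon_iff.2 si.flip).paste_vert C.hi
  have sj : IsPullback j₁.left c.left gY.left C.j.left := by
    refine IsPullback.of_right ?_ (congrArg Over.Hom.left hjc) sb.flip |>.flip.flip
    rw [show C.j.left ≫ C.b.left = C.i.left ≫ C.a.left from (congrArg Over.Hom.left C.pinch.w).symm,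
      show j₁.left ≫ b₁.left = i₁.left ≫ a₁.left from (congrArg Over.Hom.left hjw).symm]
    exact si.flip.paste_horiz sa.flip
  have hj' : IsPullback ((yon S).map j₁) qX rY cY.hom := by
    refine IsPullback.of_bot ?_ hqX.symm h₁
    rw [h₂.lift_snd, hWY.lift_snd]
    exact (isPullback_yon_iff.2 sj).paste_vert C.hj
  let D : Chart cX'.hom cY.hom aX'.hom aY.hom :=
    { X₀ := X₁, X₀' := X₁', Y₀ := Y₁, P₀ := W₀, i := i₁, j := j₁, a := a₁, b := b₁, pinch := hpin, q := qX, q' := qX',
      r := rY, p := pD, hi := hi', hj := hj', ha := ha', hb := hb', et := hpe, surj := hps }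
  exact (isPushout_of_chart hcomm.symm D).flip

end Groth.Agent.ThickPush
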