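import Groth.Agent.ThickPush.Scheme
import Groth.Agent.AlgSpLib.Presentation
import Groth.Agent.AlgSpLib.Quot
import Groth.Agent.AlgSpLib.LocP

/-!
# Pushouts of algebraic spaces along thickenings: charts and the universal property
-/

set_option autoImplicit false
set_option backward.isDefEq.respectTransparency false
set_option linter.style.haveILetI false

universe u

open CategoryTheory CategoryTheory.Limits AlgebraicGeometry

namespace Groth.Agent.ThickPush

open _root_.AlgSp Groth.Agent.AlgSpLib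

variable {S : Scheme.{u}}

/-- Fibre products over a base, read on underlying schemes. -/
theorem exists_pullback_over {A B C : Over S} (f : A ⟶ C) (g : B ⟶ C) :
    ∃ (W : Over S) (p : W ⟶ A) (q : W ⟶ B), IsPullback p.left q.left f.left g.left :=
  ⟨Over.mk (pullback.fst f.left g.left ≫ A.hom), Over.homMk (pullback.fst f.left g.left) rfl,
    Over.homMk (pullback.snd f.left g.left) (by
      show pullback.snd f.left g.left ≫ B.hom = pullback.fst f.left g.left ≫ A.hom
      rw [← Over.w f, ← Over.w g, pullback.condition_assoc]), IsPullback.of_hasPullback f.left g.left⟩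

theorem over_w {W A B C : Over S} {p : W ⟶ A} {q : W ⟶ B} {f : A ⟶ C} {g : B ⟶ C}
    (h : IsPullback p.left q.left f.left g.left) : p ≫ f = q ≫ g :=
  Over.OverMorphism.ext h.w

variable {X X' Y P : Sp S}

/-- A chart of a square of sheaves by a pinching of schemes along a thickening and an affine morphism. -/
structure Chart (t : X ⟶ X') (f : X ⟶ Y) (f' : X' ⟶ P) (t' : Y ⟶ P) where
  X₀ : Over S
  X₀' : Over S
  Y₀ : Over S
  P₀ : Over S
  i : X₀ ⟶ X₀'
  j : X₀ ⟶ Y₀
  a : X₀' ⟶ P₀
  b : Y₀ ⟶ P₀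
  pinch : IsThickPinch i j a b
  q : (yon S).obj X₀ ⟶ X
  q' : (yon S).obj X₀' ⟶ X'
  r : (yon S).obj Y₀ ⟶ Y
  p : (yon S).obj P₀ ⟶ P
  hi : IsPullback ((yon S).map i) q q' t
  hj : IsPullback ((yon S).map j) q r f
  ha : IsPullback ((yon S).map a) q' p f'
  hb : IsPullback ((yon S).map b) r p t'
  et : RepWith @Etale p
  surj : RepWith @Surjective p

namespace Chart

variable {t : X ⟶ X'} {f : X ⟶ Y} {f' : X' ⟶ P} {t' : Y ⟶ P} (C : Chart t f f' t')

theorem et_q' : RepWith @Etale C.q' := repWith_baseChange C.ha C.et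

theorem et_r : RepWith @Etale C.r := repWith_baseChange C.hb C.et

theorem surj_r : RepWith @Surjective C.r := repWith_baseChange C.hb C.surj

theorem surj_q' : RepWith @Surjective C.q' := repWith_baseChange C.ha C.surj

include C

theorem hom_ext {F : Sp S} (hF : IsAlgSpace F) {g₁ g₂ : P ⟶ F} (e' : f' ≫ g₁ = f' ≫ g₂)
    (e : t' ≫ g₁ = t' ≫ g₂) : g₁ = g₂ := by
  haveI := isLocallySurjective_of_atlas C.et C.surj
  haveI : Epi C.p := (Sheaf.isLocallySurjective_iff_epi _).1 inferInstance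
  rw [← cancel_epi C.p]
  refine C.pinch.sp_hom_ext hF ?_ ?_
  · rw [reassoc_of% C.ha.w, reassoc_of% C.ha.w, e']
  · rw [reassoc_of% C.hb.w, reassoc_of% C.hb.w, e]

theorem exists_desc (hP : IsAlgSpace P) {F : Sp S} (hF : IsAlgSpace F) (g' : X' ⟶ F) (g : Y ⟶ F)
    (e : t ≫ g' = f ≫ g) : ∃ h : P ⟶ F, f' ≫ h = g' ∧ t' ≫ h = g := by
  obtain ⟨β, hβa, hβb⟩ := C.pinch.sp_desc hF (C.q' ≫ g') (C.r ≫ g)
    (by rw [reassoc_of% C.hi.w, reassoc_of% C.hj.w, e])
  haveI := isLocallySurjective_of_atlas C.et C.surj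
  obtain ⟨R, k₁, k₂, sqR⟩ := exists_pullback hP.diag C.p C.p
  haveI : Etale k₁.left := (repWith_yon_iff k₁).1 (repWith_baseChange sqR.flip C.et)
  obtain ⟨XR', gX', aR, haR⟩ := exists_pullback_over C.a k₁
  obtain ⟨YR, gY, bR, hbR⟩ := exists_pullback_over C.b k₁
  obtain ⟨XR, c, iR, hiR⟩ := exists_pullback_over C.i gX'
  let jl := hbR.lift (c.left ≫ C.j.left) (iR.left ≫ aR.left) (by
    rw [Category.assoc, show C.j.left ≫ C.b.left = C.i.left ≫ C.a.left from (congrArg (fun m => m.left) C.pinch.w).symm,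
      reassoc_of% hiR.w, haR.w, Category.assoc])
  let jR : XR ⟶ YR := Over.homMk jl (by
    rw [← Over.w gY, hbR.lift_fst_assoc, Category.assoc, Over.w C.j, Over.w c])
  have hjc : jR ≫ gY = c ≫ C.j := Over.OverMorphism.ext (hbR.lift_fst _ _ _)
  have hjw : iR ≫ aR = jR ≫ bR := Over.OverMorphism.ext (hbR.lift_snd _ _ _).symm
  have hpR := C.pinch.baseChange k₁ haR hbR hiR hjc hjw
  have hR : (yon S).map k₁ ≫ β = (yon S).map k₂ ≫ β := by
    refine hpR.sp_hom_ext hF ?_ ?_
    · have hw : ((yon S).map aR ≫ (yon S).map k₂) ≫ C.p = ((yon S).map gX' ≫ C.q') ≫ f' := by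
        rw [Category.assoc, ← sqR.w, ← Functor.map_comp_assoc, ← over_w haR, Functor.map_comp_assoc, C.ha.w,
          Category.assoc]
      rw [← Functor.map_comp_assoc, ← over_w haR, Functor.map_comp_assoc, hβa,
        ← Category.assoc ((yon S).map aR) ((yon S).map k₂) β, ← C.ha.lift_fst _ _ hw, Category.assoc, hβa,
        ← Category.assoc _ C.q' g', ← Category.assoc _ C.q' g', C.ha.lift_snd _ _ hw]
    · have hw : ((yon S).map bR ≫ (yon S).map k₂) ≫ C.p = ((yon S).map gY ≫ C.r) ≫ t' := by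
        rw [Category.assoc, ← sqR.w, ← Functor.map_comp_assoc, ← over_w hbR, Functor.map_comp_assoc, C.hb.w,
          Category.assoc]
      rw [← Functor.map_comp_assoc, ← over_w hbR, Functor.map_comp_assoc, hβb,
        ← Category.assoc ((yon S).map bR) ((yon S).map k₂) β, ← C.hb.lift_fst _ _ hw, Category.assoc, hβb,
        ← Category.assoc _ C.r g, ← Category.assoc _ C.r g, C.hb.lift_snd _ _ hw]
  obtain ⟨hc⟩ := isColimit_of_isPullback sqR
  let h : P ⟶ F := hc.desc (Cofork.ofπ β hR)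
  have hh : C.p ≫ h = β := hc.fac (Cofork.ofπ β hR) WalkingParallelPair.one
  refine ⟨h, ?_, ?_⟩
  · haveI := isLocallySurjective_of_atlas C.et_q' C.surj_q'
    haveI : Epi C.q' := (Sheaf.isLocallySurjective_iff_epi _).1 inferInstance
    rw [← cancel_epi C.q', ← reassoc_of% C.ha.w, hh, hβa]
  · haveI := isLocallySurjective_of_atlas C.et_r C.surj_r
    haveI : Epi C.r := (Sheaf.isLocallySurjective_iff_epi _).1 inferInstance
    rw [← cancel_epi C.r, ← reassoc_of% C.hb.w, hh, hβb]

end Chart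

/-- A square of algebraic spaces with a chart is a pushout. -/
theorem isPushout_of_chart {X X' Y P : Space S} {t : X ⟶ X'} {f : X ⟶ Y} {f' : X' ⟶ P} {t' : Y ⟶ P}
    (w : t ≫ f' = f ≫ t') (C : Chart t.hom f.hom f'.hom t'.hom) : IsPushout t f f' t' := by
  choose h h₁ h₂ using fun s : PushoutCocone t f =>
    C.exists_desc P.property s.pt.property s.inl.hom s.inr.hom (congrArg (fun m => m.hom) s.condition)
  exact ⟨⟨w⟩, ⟨PushoutCocone.IsColimit.mk _ (fun s => ObjectProperty.homMk (h s))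
    (fun s => ObjectProperty.hom_ext _ (h₁ s)) (fun s => ObjectProperty.hom_ext _ (h₂ s))
    (fun s m e₁ e₂ => ObjectProperty.hom_ext _ (C.hom_ext s.pt.property
      ((congrArg (fun m => m.hom) e₁).trans (h₁ s).symm) ((congrArg (fun m => m.hom) e₂).trans (h₂ s).symm)))⟩⟩

end Groth.Agent.ThickPush
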