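import Groth.Agent.ThickPush.Relation
import Groth.Agent.SpThick.Main
import Groth.Agent.EtInvariance.Quotient
import Groth.Agent.EtInvariance.Thick
import Groth.Agent.AlgSpLib.Quotient
import Groth.Agent.AlgSpLib.Presentation
import Groth.Agent.AlgSpLib.FpqcProps
import Groth.Agent.AlgSpLib.RepDescent
import Groth.Agent.AlgSpLib.LocalTarget
import Groth.Agent.AlgSpLib.MiscCancel
import Groth.Agent.AlgSpLib.Sigma

/-!
# Existence of pushouts of algebraic spaces along thickenings and affine morphisms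
-/

set_option autoImplicit false
set_option backward.isDefEq.respectTransparency false
set_option linter.style.haveILetI false

universe u

open CategoryTheory CategoryTheory.Limits AlgebraicGeometry

namespace Groth.Agent.ThickPush

open _root_.AlgSp Groth.Agent.AlgSpLib Groth.Agent.EtInvariance

variable {S : Scheme.{u}}

/-- The two projections of the relations over the parts form cartesian squares. -/
theorem isPullback_relations {A B : Sp S} {g : A ⟶ B} {A₀ B₀ RA RB : Over S} {q : (yon S).obj A₀ ⟶ A}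
    {r : (yon S).obj B₀ ⟶ B} {g₀ : A₀ ⟶ B₀} (hg : IsPullback ((yon S).map g₀) q r g)
    {a₁ a₂ : RA ⟶ A₀} (sqA : IsPullback ((yon S).map a₁) ((yon S).map a₂) q q)
    {b₁ b₂ : RB ⟶ B₀} (sqB : IsPullback ((yon S).map b₁) ((yon S).map b₂) r r)
    {gR : RA ⟶ RB} (e₁ : gR ≫ b₁ = a₁ ≫ g₀) (e₂ : gR ≫ b₂ = a₂ ≫ g₀) :
    IsPullback gR.left a₁.left b₁.left g₀.left ∧ IsPullback gR.left a₂.left b₂.left g₀.left := by
  have key : ∀ (a a' : RA ⟶ A₀) (b b' : RB ⟶ B₀), IsPullback ((yon S).map a) ((yon S).map a') q q →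
      IsPullback ((yon S).map b) ((yon S).map b') r r → gR ≫ b = a ≫ g₀ → gR ≫ b' = a' ≫ g₀ →
      IsPullback gR.left a'.left b'.left g₀.left := by
    intro a a' b b' sqA sqB e e'
    refine isPullback_yon_iff.1 (IsPullback.of_right ?_ ?_ sqB)
    · rw [← Functor.map_comp, e, Functor.map_comp, hg.w]
      exact sqA.paste_horiz hg
    · rw [← Functor.map_comp, ← Functor.map_comp, e']
  exact ⟨key a₂ a₁ b₂ b₁ sqA.flip sqB.flip e₂ e₁, key a₁ a₂ b₁ b₂ sqA sqB e₁ e₂⟩

/-- The scheme part of the data of a pushout chart: the two parts. -/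
theorem exists_parts {X X' Y : Sp S} (hX : IsAlgSpace X) (hX' : IsAlgSpace X') (t : X ⟶ X') (ht : IsThickMor t)
    (f : X ⟶ Y) (hf : RepWith @IsAffineHom f) {Y₀ : Over S} (r : (yon S).obj Y₀ ⟶ Y) (hre : RepWith @Etale r)
    (hrs : RepWith @Surjective r) :
    ∃ (X₀ X₀' : Over S) (i : X₀ ⟶ X₀') (j : X₀ ⟶ Y₀) (q : (yon S).obj X₀ ⟶ X) (q' : (yon S).obj X₀' ⟶ X'),
      IsClosedImmersion i.left ∧ Surjective i.left ∧ IsAffineHom j.left ∧ RepWith @Etale q' ∧ RepWith @Surjective q' ∧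
      IsPullback ((yon S).map i) q q' t ∧ IsPullback ((yon S).map j) q r f := by
  obtain ⟨X₀, q, j, sqj, hj⟩ := exists_repWith hf r
  have hqe : RepWith @Etale q := repWith_baseChange sqj.flip hre
  have hqs : RepWith @Surjective q := repWith_baseChange sqj.flip hrs
  have hUH := IsUH.of_thick ht
  obtain ⟨V', a, c, hV', hae, sqa⟩ := exists_descend hX hX' (IsAlgSpace.yon_obj X₀) t hUH q (isEtaleMor_of_repWith' hqe)
  have hc : IsThickMor c := repWith_baseChange sqa ht
  obtain ⟨X₀', ⟨e⟩⟩ := SpThick.exists_scheme_of_thick hV' hc (Iso.refl _)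
  obtain ⟨i, hi⟩ := exists_map_eq (c ≫ e.inv)
  have hq' : RepWith @Etale (e.hom ≫ a) := hae e.hom (repWith_of_isIso _)
  have hit : thick i.left := (repWith_yon_iff i).1 (hi ▸ (repWith_comp_iso_iff (P := thick) c e.inv).2 hc)
  have sqi : IsPullback ((yon S).map i) q (e.hom ≫ a) t :=
    IsPullback.of_iso sqa.flip (Iso.refl _) e.symm (Iso.refl _) (Iso.refl _) (by simp [hi]) (by simp) (by simp) (by simp)
  refine ⟨X₀, X₀', i, j, q, e.hom ≫ a, hit.1, hit.2, hj, hq', ?_, sqi, sqj.flip⟩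
  refine repWith_surjective_of_isSurjectiveMor hq'.1 fun x => ?_
  obtain ⟨x₀, rfl⟩ := hUH.bijective.2 x
  obtain ⟨u, hu⟩ := isSurjectiveMor_of_repWith hqs x₀
  refine ⟨Points.map ((yon S).map i) u, ?_⟩
  rw [← Points.map_comp, sqi.w, Points.map_comp, hu]

/-- Pushouts of algebraic spaces along a thickening and an affine morphism exist, with charts. -/
theorem exists_chart' {X X' Y : Sp S} (hX : IsAlgSpace X) (hX' : IsAlgSpace X') (hY : IsAlgSpace Y) (t : X ⟶ X')
    (ht : IsThickMor t) (f : X ⟶ Y) (hf : RepWith @IsAffineHom f) {Y₀ : Over S} (r : (yon S).obj Y₀ ⟶ Y)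
    (hre : RepWith @Etale r) (hrs : RepWith @Surjective r) :
    ∃ (P : Sp S) (f' : X' ⟶ P) (t' : Y ⟶ P) (C : Chart t f f' t'),
      IsAlgSpace P ∧ t ≫ f' = f ≫ t' ∧ IsThickMor t' ∧ ∃ α : C.Y₀ ⟶ Y₀, (yon S).map α ≫ r = C.r := by
  obtain ⟨X₀, X₀', i, j, q, q', hic, his, hja, hq'e, hq's, sqi, sqj⟩ := exists_parts hX hX' t ht f hf r hre hrs
  haveI := hic
  haveI := his
  haveI := hja
  obtain ⟨P₀, a, b, hP⟩ := exists_thickPinch i j
  obtain ⟨RY, y₁, y₂, sqY⟩ := exists_pullback hY.diag r r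
  obtain ⟨RX, x₁, x₂, sqX⟩ := exists_pullback hX.diag q q
  obtain ⟨RX', x₁', x₂', sqX'⟩ := exists_pullback hX'.diag q' q'
  obtain ⟨iR, hiR⟩ := exists_map_eq (sqX'.lift ((yon S).map (x₁ ≫ i)) ((yon S).map (x₂ ≫ i)) (by
    simp only [Functor.map_comp, Category.assoc, sqi.w, reassoc_of% sqX.w]))
  obtain ⟨jR, hjR⟩ := exists_map_eq (sqY.lift ((yon S).map (x₁ ≫ j)) ((yon S).map (x₂ ≫ j)) (by
    simp only [Functor.map_comp, Category.assoc, sqj.w, reassoc_of% sqX.w]))
  have ei₁ : iR ≫ x₁' = x₁ ≫ i := (yon S).map_injective (by rw [Functor.map_comp, hiR, sqX'.lift_fst])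
  have ei₂ : iR ≫ x₂' = x₂ ≫ i := (yon S).map_injective (by rw [Functor.map_comp, hiR, sqX'.lift_snd])
  have ej₁ : jR ≫ y₁ = x₁ ≫ j := (yon S).map_injective (by rw [Functor.map_comp, hjR, sqY.lift_fst])
  have ej₂ : jR ≫ y₂ = x₂ ≫ j := (yon S).map_injective (by rw [Functor.map_comp, hjR, sqY.lift_snd])
  obtain ⟨sqi₁, sqi₂⟩ := isPullback_relations sqi sqX sqX' ei₁ ei₂
  obtain ⟨sqj₁, sqj₂⟩ := isPullback_relations sqj sqX sqY ej₁ ej₂
  haveI : IsClosedImmersion iR.left := MorphismProperty.of_isPullback sqi₁.flip hic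
  haveI : Surjective iR.left := MorphismProperty.of_isPullback sqi₁.flip his
  haveI : IsAffineHom jR.left := MorphismProperty.of_isPullback sqj₁.flip hja
  obtain ⟨R₀, aR, bR, hR⟩ := exists_thickPinch iR jR
  obtain ⟨s, has, hbs⟩ : ∃ s : R₀ ⟶ P₀, aR ≫ s = x₁' ≫ a ∧ bR ≫ s = y₁ ≫ b :=
    ⟨hR.isPushout.desc (x₁' ≫ a) (y₁ ≫ b) (by rw [reassoc_of% ei₁, hP.w, reassoc_of% ej₁]),
      hR.isPushout.inl_desc _ _ _, hR.isPushout.inr_desc _ _ _⟩
  obtain ⟨τ, hat, hbt⟩ : ∃ s : R₀ ⟶ P₀, aR ≫ s = x₂' ≫ a ∧ bR ≫ s = y₂ ≫ b :=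
    ⟨hR.isPushout.desc (x₂' ≫ a) (y₂ ≫ b) (by rw [reassoc_of% ei₂, hP.w, reassoc_of% ej₂]),
      hR.isPushout.inl_desc _ _ _, hR.isPushout.inr_desc _ _ _⟩
  obtain ⟨sqas, sqbs⟩ := hP.isPullback_branches hR sqi₁ sqj₁ has hbs
  obtain ⟨sqat, sqbt⟩ := hP.isPullback_branches hR sqi₂ sqj₂ hat hbt
  have etq' : Etale x₁'.left ∧ Etale x₂'.left :=
    ⟨(repWith_yon_iff _).1 (repWith_baseChange sqX'.flip hq'e), (repWith_yon_iff _).1 (repWith_baseChange sqX' hq'e)⟩
  have etr : Etale y₁.left ∧ Etale y₂.left :=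
    ⟨(repWith_yon_iff _).1 (repWith_baseChange sqY.flip hre), (repWith_yon_iff _).1 (repWith_baseChange sqY hre)⟩
  have hets : Etale s.left := Pinch.of_desc (M := @Etale) Pinch.desc_etale
    (RingHom.Etale.stableUnderComposition.stableUnderCompositionWithLocalizationAway (fun R S _ _ _ r _ => RingHom.etale_algebraMap.2 (Algebra.Etale.of_isLocalizationAway r))).1 hP.hasCharts hP.pinch hR.hasCharts hR.pinch
    sqi₁ sqj₁ (congrArg Over.Hom.left has) (congrArg Over.Hom.left hbs)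
    (fun U V e => HasRingHomProperty.appLE @Etale _ etq'.1 U V e) (fun U V e => HasRingHomProperty.appLE @Etale _ etr.1 U V e)
  have hett : Etale τ.left := Pinch.of_desc (M := @Etale) Pinch.desc_etale
    (RingHom.Etale.stableUnderComposition.stableUnderCompositionWithLocalizationAway (fun R S _ _ _ r _ => RingHom.etale_algebraMap.2 (Algebra.Etale.of_isLocalizationAway r))).1 hP.hasCharts hP.pinch hR.hasCharts hR.pinch
    sqi₂ sqj₂ (congrArg Over.Hom.left hat) (congrArg Over.Hom.left hbt)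
    (fun U V e => HasRingHomProperty.appLE @Etale _ etq'.2 U V e) (fun U V e => HasRingHomProperty.appLE @Etale _ etr.2 U V e)
  have heq : IsEqvRel s τ := isEqvRel_of_pinch hP hR
    (isEqvRel_of_isPullback (s := x₁') (t := x₂') sqX'.flip) (isEqvRel_of_isPullback (s := y₁) (t := y₂) sqY.flip)
    hets hett has hat hbs hbt sqas sqat sqbs sqbt
  let P := QuotSh.quot Scheme.fppfPrecoverage s τ
  let p : (yon S).obj P₀ ⟶ P := quotProj s τ
  obtain ⟨hPs, hpres⟩ := isPresentation_of_coequalizer ⟨heq, hets, hett⟩ (isColimitQuotProj s τ)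
  have hp : (yon S).map τ ≫ p = (yon S).map s ≫ p := quotProj_condition s τ
  -- the two maps into the quotient
  haveI := isLocallySurjective_of_atlas hq'e hq's
  haveI := isLocallySurjective_of_atlas hre hrs
  obtain ⟨hcX'⟩ := isColimit_of_isPullback sqX'
  obtain ⟨hcY⟩ := isColimit_of_isPullback sqY
  let f' : X' ⟶ P := hcX'.desc (Cofork.ofπ ((yon S).map a ≫ p) (by
    rw [← Functor.map_comp_assoc, ← Functor.map_comp_assoc, ← has, ← hat, Functor.map_comp_assoc, Functor.map_comp_assoc, hp]))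
  let t' : Y ⟶ P := hcY.desc (Cofork.ofπ ((yon S).map b ≫ p) (by
    rw [← Functor.map_comp_assoc, ← Functor.map_comp_assoc, ← hbs, ← hbt, Functor.map_comp_assoc, Functor.map_comp_assoc, hp]))
  have hf' : q' ≫ f' = (yon S).map a ≫ p := hcX'.fac _ WalkingParallelPair.one
  have ht' : r ≫ t' = (yon S).map b ≫ p := hcY.fac _ WalkingParallelPair.one
  haveI : Epi q := by
    haveI := isLocallySurjective_of_atlas (repWith_baseChange sqj hre) (repWith_baseChange sqj hrs)
    exact (Sheaf.isLocallySurjective_iff_epi _).1 inferInstance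
  have w : t ≫ f' = f ≫ t' := by
    rw [← cancel_epi q, ← reassoc_of% sqi.w, hf', ← reassoc_of% sqj.w, ht', ← Functor.map_comp_assoc, hP.w,
      Functor.map_comp_assoc]
  -- cartesian squares of the chart
  have sqas' : IsPullback ((yon S).map aR) ((yon S).map x₂') ((yon S).map τ) ((yon S).map a) := isPullback_yon_iff.2 sqat
  have ha : IsPullback ((yon S).map a) q' p f' := by
    refine isPullback_of_etale_surjective (IsAlgSpace.yon_obj X₀') (IsAlgSpace.yon_obj X₀') hX' (IsAlgSpace.yon_obj P₀) hPs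
      (ac := (yon S).map x₁') (ab := (yon S).map x₂') sqX' hf' ?_ (isSurjectiveMor_of_repWith hq's) (isEtaleMor_of_repWith' hq'e)
    rw [← Functor.map_comp, ← has, Functor.map_comp, hf']
    exact (sqas'.flip.paste_vert hpres.isPullback).flip
  have sqbs' : IsPullback ((yon S).map bR) ((yon S).map y₂) ((yon S).map τ) ((yon S).map b) := isPullback_yon_iff.2 sqbt
  have hb : IsPullback ((yon S).map b) r p t' := by
    refine isPullback_of_etale_surjective (IsAlgSpace.yon_obj Y₀) (IsAlgSpace.yon_obj Y₀) hY (IsAlgSpace.yon_obj P₀) hPs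
      (ac := (yon S).map y₁) (ab := (yon S).map y₂) sqY ht' ?_ (isSurjectiveMor_of_repWith hrs) (isEtaleMor_of_repWith' hre)
    rw [← Functor.map_comp, ← hbs, Functor.map_comp, ht']
    exact (sqbs'.flip.paste_vert hpres.isPullback).flip
  let C : Chart t f f' t' :=
    { X₀ := X₀, X₀' := X₀', Y₀ := Y₀, P₀ := P₀, i := i, j := j, a := a, b := b, pinch := hP, q := q, q' := q', r := r,
      p := p, hi := sqi, hj := sqj, ha := ha, hb := hb, et := hpres.etale, surj := hpres.surjective }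
  refine ⟨P, f', t', C, hPs, w, ?_, 𝟙 Y₀, by rw [CategoryTheory.Functor.map_id, Category.id_comp]⟩
  haveI := isLocallySurjective_of_atlas hpres.etale hpres.surjective
  have hbth : RepWith thick ((yon S).map b) := (repWith_yon_iff b).2 hP.b_thick
  obtain ⟨hb1, hb2⟩ := repWith_inf_iff.1 hbth
  have hrep : Representable t' := by
    refine representable_of_indQA t' (b := p) (fun T ξ => exists_fppf_lift p ξ) hb.flip
      (repWith_mono (fun _ _ q hq => ?_) hb1)
    haveI : IsClosedImmersion q := hq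
    exact indQA_of_isAffineHom q
  exact repWith_inf_iff.2 ⟨repWith_of_isLocallySurjective hrep hb.flip hb1, repWith_of_isLocallySurjective hrep hb.flip hb2⟩

/-- Pushouts of algebraic spaces along a thickening and an affine morphism exist. -/
theorem exists_chart {X X' Y : Sp S} (hX : IsAlgSpace X) (hX' : IsAlgSpace X') (hY : IsAlgSpace Y) (t : X ⟶ X')
    (ht : IsThickMor t) (f : X ⟶ Y) (hf : RepWith @IsAffineHom f) {Y₀ : Over S} (r : (yon S).obj Y₀ ⟶ Y)
    (hre : RepWith @Etale r) (hrs : RepWith @Surjective r) :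
    ∃ (P : Sp S) (f' : X' ⟶ P) (t' : Y ⟶ P) (_C : Chart t f f' t'),
      IsAlgSpace P ∧ t ≫ f' = f ≫ t' ∧ IsThickMor t' :=
  let ⟨P, f', t', C, h1, h2, h3, _⟩ := exists_chart' hX hX' hY t ht f hf r hre hrs
  ⟨P, f', t', C, h1, h2, h3⟩

end Groth.Agent.ThickPush
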