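import Groth.Agent.ThickPush.Scheme
import Groth.Agent.ThickPush.Chart
import Mathlib.AlgebraicGeometry.Morphisms.FormallyUnramified

/-!
# The equivalence relation pinched from two equivalence relations
-/

set_option autoImplicit false
set_option backward.isDefEq.respectTransparency false
set_option linter.style.haveILetI false

universe u

open CategoryTheory CategoryTheory.Limits AlgebraicGeometry

namespace Groth.Agent.ThickPush

open _root_.AlgSp

/-- Field points lift along surjective closed immersions. -/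
theorem exists_lift_field {A B : Scheme.{u}} (b : A ⟶ B) [IsClosedImmersion b] [Surjective b] {K : Type u} [Field K]
    (x : Spec (CommRingCat.of K) ⟶ B) : ∃ y, y ≫ b = x := by
  haveI : Surjective (pullback.snd b x) := MorphismProperty.pullback_snd _ _ ‹_›
  haveI : IsIso (pullback.snd b x) := isIso_of_isClosedImmersion_of_surjective _
  exact ⟨inv (pullback.snd b x) ≫ pullback.fst b x, by rw [Category.assoc, pullback.condition, IsIso.inv_hom_id_assoc]⟩

/-- Two maps into a scheme etale over another agree if they agree at all points. -/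
theorem eq_of_points {T R P : Scheme.{u}} (s : R ⟶ P) [Etale s] (r r' : T ⟶ R) (e : r ≫ s = r' ≫ s)
    (h : ∀ x : T, T.fromSpecResidueField x ≫ r = T.fromSpecResidueField x ≫ r') : r = r' := by
  let l := pullback.lift r r' e
  haveI : IsOpenImmersion (pullback.diagonal s) := inferInstance
  haveI : IsOpenImmersion (pullback.snd (pullback.diagonal s) l) := MorphismProperty.pullback_snd _ _ ‹_›
  haveI : Surjective (pullback.snd (pullback.diagonal s) l) := ⟨fun x => by
    have w : (T.fromSpecResidueField x ≫ r) ≫ pullback.diagonal s = T.fromSpecResidueField x ≫ l := by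
      apply pullback.hom_ext <;> simp [l, h x]
    refine ⟨pullback.lift _ _ w (IsLocalRing.closedPoint _), ?_⟩
    rw [← Scheme.Hom.comp_apply, pullback.lift_snd, Scheme.fromSpecResidueField_apply]⟩
  haveI : IsIso (pullback.snd (pullback.diagonal s) l) :=
    (isIso_iff_isOpenImmersion_and_epi_base _).2 ⟨inferInstance, (TopCat.epi_iff_surjective _).2
      (pullback.snd (pullback.diagonal s) l).surjective⟩
  have e1 : l = inv (pullback.snd (pullback.diagonal s) l) ≫ pullback.fst (pullback.diagonal s) l ≫ pullback.diagonal s := by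
    rw [pullback.condition, IsIso.inv_hom_id_assoc]
  have e2 : l ≫ pullback.fst s s = l ≫ pullback.snd s s := by
    rw [e1]; simp
  simpa [l] using e2

variable {S : Scheme.{u}} {X₀ X₀' Y₀ P₀ RX RX' RY R₀ : Over S}
  {i : X₀ ⟶ X₀'} {j : X₀ ⟶ Y₀} {a : X₀' ⟶ P₀} {b : Y₀ ⟶ P₀}
  {iR : RX ⟶ RX'} {jR : RX ⟶ RY} {aR : RX' ⟶ R₀} {bR : RY ⟶ R₀}
  {x₁ x₂ : RX' ⟶ X₀'} {y₁ y₂ : RY ⟶ Y₀} {s t : R₀ ⟶ P₀}

/-- Pinched pairs of maps are injective. -/
theorem injective_of_pinch (h : IsThickPinch i j a b) (hR : IsThickPinch iR jR aR bR) (hY : IsEqvRel y₁ y₂)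
    (hs : Etale s.left) (hbs : bR ≫ s = y₁ ≫ b) (hbt : bR ≫ t = y₂ ≫ b) (T : Over S) (r r' : T ⟶ R₀)
    (et : r ≫ t = r' ≫ t) (es : r ≫ s = r' ≫ s) : r = r' := by
  haveI := h.b_thick.1
  haveI := hR.b_thick.1
  haveI := hR.b_thick.2
  haveI := hs
  haveI : Mono b := (Over.forget S).mono_of_mono_map (show Mono b.left from inferInstance)
  refine Over.OverMorphism.ext (eq_of_points s.left r.left r'.left (congrArg (fun m => m.left) es) fun x => ?_)
  obtain ⟨z, hz⟩ := exists_lift_field bR.left (T.left.fromSpecResidueField x ≫ r.left)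
  obtain ⟨z', hz'⟩ := exists_lift_field bR.left (T.left.fromSpecResidueField x ≫ r'.left)
  let K : Over S := Over.mk (T.left.fromSpecResidueField x ≫ T.hom)
  let k : K ⟶ T := Over.homMk (T.left.fromSpecResidueField x) rfl
  let zo : K ⟶ RY := Over.homMk z (by rw [← Over.w bR, reassoc_of% hz, Over.w r]; rfl)
  let zo' : K ⟶ RY := Over.homMk z' (by rw [← Over.w bR, reassoc_of% hz', Over.w r']; rfl)
  have hzo : zo ≫ bR = k ≫ r := Over.OverMorphism.ext hz
  have hzo' : zo' ≫ bR = k ≫ r' := Over.OverMorphism.ext hz'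
  have e : zo = zo' := by
    refine hY.injective K zo zo' ?_ ?_
    · rw [← cancel_mono b, Category.assoc, Category.assoc, ← hbt, reassoc_of% hzo, reassoc_of% hzo', et]
    · rw [← cancel_mono b, Category.assoc, Category.assoc, ← hbs, reassoc_of% hzo, reassoc_of% hzo', es]
  rw [← hz, ← hz', show z = z' from congrArg (fun m => m.left) e]

/-- Two equivalence relations on the parts give one on the pinching. -/
theorem isEqvRel_of_pinch (h : IsThickPinch i j a b) (hR : IsThickPinch iR jR aR bR)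
    (hX : IsEqvRel x₁ x₂) (hY : IsEqvRel y₁ y₂) (hs : Etale s.left) (ht : Etale t.left)
    (has : aR ≫ s = x₁ ≫ a) (hat : aR ≫ t = x₂ ≫ a) (hbs : bR ≫ s = y₁ ≫ b) (hbt : bR ≫ t = y₂ ≫ b)
    (sqas : IsPullback aR.left x₁.left s.left a.left) (sqat : IsPullback aR.left x₂.left t.left a.left)
    (sqbs : IsPullback bR.left y₁.left s.left b.left) (sqbt : IsPullback bR.left y₂.left t.left b.left) :
    IsEqvRel s t := by
  have inj := injective_of_pinch h hR hY hs hbs hbt
  -- a map from a pinching given on its parts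
  have mk : ∀ {W WX WX' WY : Over S} {iW : WX ⟶ WX'} {jW : WX ⟶ WY} {aW : WX' ⟶ W} {bW : WY ⟶ W}
      (_ : IsThickPinch iW jW aW bW) (A B : W ⟶ P₀) (cX : WX' ⟶ R₀) (cY : WY ⟶ R₀),
      cX ≫ s = aW ≫ A → cX ≫ t = aW ≫ B → cY ≫ s = bW ≫ A → cY ≫ t = bW ≫ B →
      ∃ c : W ⟶ R₀, c ≫ t = B ∧ c ≫ s = A := by
    intro W WX WX' WY iW jW aW bW hW A B cX cY e1 e2 e3 e4
    have e : iW ≫ cX = jW ≫ cY := inj _ _ _
      (by rw [Category.assoc, Category.assoc, e2, e4, reassoc_of% hW.w])
      (by rw [Category.assoc, Category.assoc, e1, e3, reassoc_of% hW.w])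
    refine ⟨hW.isPushout.desc cX cY e, ?_, ?_⟩
    · exact hW.isPushout.hom_ext (by rw [hW.isPushout.inl_desc_assoc, e2]) (by rw [hW.isPushout.inr_desc_assoc, e4])
    · exact hW.isPushout.hom_ext (by rw [hW.isPushout.inl_desc_assoc, e1]) (by rw [hW.isPushout.inr_desc_assoc, e3])
  refine ⟨inj, fun T => ⟨fun z => ?_, fun {z z'} hzz => ?_, fun {z z' z''} h₁ h₂ => ?_⟩⟩
  · obtain ⟨dX, dX1, dX2⟩ := (hX.equivalence X₀').refl (𝟙 _)
    obtain ⟨dY, dY1, dY2⟩ := (hY.equivalence Y₀).refl (𝟙 _)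
    obtain ⟨c, c1, c2⟩ := mk h (𝟙 P₀) (𝟙 P₀) (dX ≫ aR) (dY ≫ bR)
      (by rw [Category.assoc, has, ← Category.assoc, dX2, Category.id_comp, Category.comp_id])
      (by rw [Category.assoc, hat, ← Category.assoc, dX1, Category.id_comp, Category.comp_id])
      (by rw [Category.assoc, hbs, ← Category.assoc, dY2, Category.id_comp, Category.comp_id])
      (by rw [Category.assoc, hbt, ← Category.assoc, dY1, Category.id_comp, Category.comp_id])
    exact ⟨z ≫ c, by rw [Category.assoc, c1, Category.comp_id], by rw [Category.assoc, c2, Category.comp_id]⟩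
  · obtain ⟨σX, σX1, σX2⟩ := (hX.equivalence RX').symm ⟨𝟙 RX', Category.id_comp _, Category.id_comp _⟩
    obtain ⟨σY, σY1, σY2⟩ := (hY.equivalence RY).symm ⟨𝟙 RY, Category.id_comp _, Category.id_comp _⟩
    obtain ⟨c, c1, c2⟩ := mk hR t s (σX ≫ aR) (σY ≫ bR)
      (by rw [Category.assoc, has, ← Category.assoc, σX2, hat])
      (by rw [Category.assoc, hat, ← Category.assoc, σX1, has])
      (by rw [Category.assoc, hbs, ← Category.assoc, σY2, hbt])
      (by rw [Category.assoc, hbt, ← Category.assoc, σY1, hbs])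
    obtain ⟨r, hr1, hr2⟩ := hzz
    exact ⟨r ≫ c, by rw [Category.assoc, c1, hr2], by rw [Category.assoc, c2, hr1]⟩
  · obtain ⟨r₁, r11, r12⟩ := h₁
    obtain ⟨r₂, r21, r22⟩ := h₂
    -- composable pairs
    obtain ⟨W, π₁, π₂, sqW⟩ := exists_pullback_over s t
    haveI : Etale π₁.left := MorphismProperty.of_isPullback (P := @Etale) sqW.flip ht
    obtain ⟨WX', gX, aW, haW⟩ := exists_pullback_over aR π₁
    obtain ⟨WY, gY, bW, hbW⟩ := exists_pullback_over bR π₁
    obtain ⟨WX, cW, iW, hiW⟩ := exists_pullback_over iR gX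
    let jl := hbW.lift (cW.left ≫ jR.left) (iW.left ≫ aW.left) (by
      rw [Category.assoc, show jR.left ≫ bR.left = iR.left ≫ aR.left from (congrArg (fun m => m.left) hR.w).symm,
        reassoc_of% hiW.w, haW.w, Category.assoc])
    let jW : WX ⟶ WY := Over.homMk jl (by
      rw [← Over.w gY, hbW.lift_fst_assoc, Category.assoc, Over.w jR, Over.w cW])
    have hW : IsThickPinch iW jW aW bW := hR.baseChange π₁ haW hbW hiW (Over.OverMorphism.ext (hbW.lift_fst _ _ _))
      (Over.OverMorphism.ext (hbW.lift_snd _ _ _).symm)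
    have wW : π₁ ≫ s = π₂ ≫ t := over_w sqW
    -- the second element lies in the parts
    have eX : (aW ≫ π₂).left ≫ t.left = (gX ≫ x₁).left ≫ a.left := by
      rw [← Over.comp_left, ← Over.comp_left]
      refine congrArg Over.Hom.left (?_ : (aW ≫ π₂) ≫ t = (gX ≫ x₁) ≫ a)
      rw [Category.assoc, ← wW, ← reassoc_of% (over_w haW), has, Category.assoc]
    let lX : WX' ⟶ RX' := Over.homMk (sqat.lift _ _ eX) (by
      rw [← Over.w aR, sqat.lift_fst_assoc, Over.w (aW ≫ π₂)])
    have lX1 : lX ≫ aR = aW ≫ π₂ := Over.OverMorphism.ext (sqat.lift_fst _ _ _)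
    have lX2 : lX ≫ x₂ = gX ≫ x₁ := Over.OverMorphism.ext (sqat.lift_snd _ _ _)
    obtain ⟨cX, cX1, cX2⟩ := (hX.equivalence WX').trans ⟨gX, rfl, rfl⟩ ⟨lX, lX2, rfl⟩
    have eY : (bW ≫ π₂).left ≫ t.left = (gY ≫ y₁).left ≫ b.left := by
      rw [← Over.comp_left, ← Over.comp_left]
      refine congrArg Over.Hom.left (?_ : (bW ≫ π₂) ≫ t = (gY ≫ y₁) ≫ b)
      rw [Category.assoc, ← wW, ← reassoc_of% (over_w hbW), hbs, Category.assoc]
    let lY : WY ⟶ RY := Over.homMk (sqbt.lift _ _ eY) (by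
      rw [← Over.w bR, sqbt.lift_fst_assoc, Over.w (bW ≫ π₂)])
    have lY1 : lY ≫ bR = bW ≫ π₂ := Over.OverMorphism.ext (sqbt.lift_fst _ _ _)
    have lY2 : lY ≫ y₂ = gY ≫ y₁ := Over.OverMorphism.ext (sqbt.lift_snd _ _ _)
    obtain ⟨cY, cY1, cY2⟩ := (hY.equivalence WY).trans ⟨gY, rfl, rfl⟩ ⟨lY, lY2, rfl⟩
    obtain ⟨c, c1, c2⟩ := mk hW (π₂ ≫ s) (π₁ ≫ t) (cX ≫ aR) (cY ≫ bR)
      (by rw [Category.assoc, has, reassoc_of% cX2, ← reassoc_of% lX1, has])
      (by rw [Category.assoc, hat, reassoc_of% cX1, ← reassoc_of% (over_w haW), hat])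
      (by rw [Category.assoc, hbs, reassoc_of% cY2, ← reassoc_of% lY1, hbs])
      (by rw [Category.assoc, hbt, reassoc_of% cY1, ← reassoc_of% (over_w hbW), hbt])
    have er : r₁.left ≫ s.left = r₂.left ≫ t.left := by
      rw [← Over.comp_left, ← Over.comp_left, r12, r21]
    let r : T ⟶ W := Over.homMk (sqW.lift r₁.left r₂.left er) (by rw [← Over.w π₁, sqW.lift_fst_assoc, Over.w r₁])
    have hr1 : r ≫ π₁ = r₁ := Over.OverMorphism.ext (sqW.lift_fst _ _ _)
    have hr2 : r ≫ π₂ = r₂ := Over.OverMorphism.ext (sqW.lift_snd _ _ _)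
    exact ⟨r ≫ c, by rw [Category.assoc, c1, reassoc_of% hr1, r11], by rw [Category.assoc, c2, reassoc_of% hr2, r22]⟩

end Groth.Agent.ThickPush
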